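import Cfsg.Agent.SchurG.S62.Pres

set_option autoImplicit false
set_option maxRecDepth 100000

namespace Cfsg.Agent.SchurG.S62
open Cfsg.Agent.Comp

noncomputable def n0 : Net :=
(Net.cons (nat_lit 0x70000000c000) (nat_lit 16)
(Net.cons (nat_lit 0x56000800c000e0) (nat_lit 8)
(Net.cons (nat_lit 0x404040800000008) (nat_lit 4)
(Net.cons (nat_lit 0x200020) (nat_lit 2)
(Net.cons (nat_lit 0x4404000100010) (nat_lit 1)
(Net.cons (nat_lit 0x1020020000200020) (nat_lit 2)
(Net.cons (nat_lit 0x605040800060f08) (nat_lit 4)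
(Net.cons (nat_lit 0x56000800c000e0) (nat_lit 8)
(Net.cons (nat_lit 0x70000000c000) (nat_lit 16)
Net.nil)))))))))

noncomputable def n1 : Net :=
(Net.cons (nat_lit 0x740000008300) (nat_lit 16)
(Net.cons (nat_lit 0x40000000fc0000) (nat_lit 8)
(Net.cons (nat_lit 0x402060000000000) (nat_lit 4)
(Net.cons (nat_lit 0x20000000000) (nat_lit 2)
(Net.cons (nat_lit 0x540040050000100) (nat_lit 1)
(Net.cons (nat_lit 0x303120001321000) (nat_lit 2)
(Net.cons (nat_lit 0x4020600000a0000) (nat_lit 4)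
(Net.cons (nat_lit 0x50000000fc0000) (nat_lit 8)
(Net.cons (nat_lit 0x740000008300) (nat_lit 16)
Net.nil)))))))))

noncomputable def n2 : Net :=
(Net.cons (nat_lit 0x480100005310) (nat_lit 16)
(Net.cons (nat_lit 0x100058006200a8) (nat_lit 8)
(Net.cons (nat_lit 0x50c0408080a0004) (nat_lit 4)
(Net.cons (nat_lit 0x220200000002220) (nat_lit 2)
(Net.cons (nat_lit 0x1410444040101414) (nat_lit 1)
(Net.cons (nat_lit 0x112020000021120) (nat_lit 2)
(Net.cons (nat_lit 0x1020a090b0e0f04) (nat_lit 4)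
(Net.cons (nat_lit 0x4e0058006200a8) (nat_lit 8)
(Net.cons (nat_lit 0x480100005310) (nat_lit 16)
Net.nil)))))))))

noncomputable def n3 : Net :=
(Net.cons (nat_lit 0x1) (nat_lit 32)
(Net.cons (nat_lit 0xbff00008004) (nat_lit 16)
(Net.cons (nat_lit 0x15001c002800a4) (nat_lit 8)
(Net.cons (nat_lit 0xe020800020000) (nat_lit 4)
(Net.cons (nat_lit 0x200020000000022) (nat_lit 2)
(Net.cons (nat_lit 0x1415115501500011) (nat_lit 1)
(Net.cons (nat_lit 0x203200330021122) (nat_lit 2)
(Net.cons (nat_lit 0x6080d0800020f0d) (nat_lit 4)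
(Net.cons (nat_lit 0x6b001c002800a4) (nat_lit 8)
(Net.cons (nat_lit 0xbff00008004) (nat_lit 16)
(Net.cons (nat_lit 0x1) (nat_lit 32)
Net.nil)))))))))))

noncomputable def n4 : Net :=
(Net.cons (nat_lit 0x2) (nat_lit 32)
(Net.cons (nat_lit 0x20000d100) (nat_lit 16)
(Net.cons (nat_lit 0x6f00a400400030) (nat_lit 8)
(Net.cons (nat_lit 0x20a0c0008000408) (nat_lit 4)
(Net.cons (nat_lit 0x222002220000) (nat_lit 2)
(Net.cons (nat_lit 0x514414401440040) (nat_lit 1)
(Net.cons (nat_lit 0x1333110202223202) (nat_lit 2)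
(Net.cons (nat_lit 0x205030f08000e08) (nat_lit 4)
(Net.cons (nat_lit 0x6f00a4005000b2) (nat_lit 8)
(Net.cons (nat_lit 0x20000d100) (nat_lit 16)
(Net.cons (nat_lit 0x2) (nat_lit 32)
Net.nil)))))))))))

noncomputable def n5 : Net :=
(Net.cons (nat_lit 0x4) (nat_lit 32)
(Net.cons (nat_lit 0xbff00000424) (nat_lit 16)
(Net.cons (nat_lit 0x1c001400440032) (nat_lit 8)
(Net.cons (nat_lit 0x60c020e04) (nat_lit 4)
(Net.cons (nat_lit 0x1022200022022002) (nat_lit 2)
(Net.cons (nat_lit 0x1041154541541004) (nat_lit 1)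
(Net.cons (nat_lit 0x1211331311022312) (nat_lit 2)
(Net.cons (nat_lit 0x10f060003020e0c) (nat_lit 4)
(Net.cons (nat_lit 0x1c00e200440032) (nat_lit 8)
(Net.cons (nat_lit 0xbff00000424) (nat_lit 16)
(Net.cons (nat_lit 0x4) (nat_lit 32)
Net.nil)))))))))))

noncomputable def n6 : Net :=
(Net.cons (nat_lit 0xc) (nat_lit 32)
(Net.cons (nat_lit 0x500000009480) (nat_lit 16)
(Net.cons (nat_lit 0x18008000480080) (nat_lit 8)
(Net.cons (nat_lit 0x600000c04080000) (nat_lit 4)
(Net.cons (nat_lit 0x2020000) (nat_lit 2)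
(Net.cons (nat_lit 0x1000004041014000) (nat_lit 1)
(Net.cons (nat_lit 0x110210113020000) (nat_lit 2)
(Net.cons (nat_lit 0x608000c09080008) (nat_lit 4)
(Net.cons (nat_lit 0x180080004a00a0) (nat_lit 8)
(Net.cons (nat_lit 0x500000009480) (nat_lit 16)
(Net.cons (nat_lit 0xc) (nat_lit 32)
Net.nil)))))))))))

noncomputable def n7 : Net :=
(Net.cons (nat_lit 0x1) (nat_lit 32)
(Net.cons (nat_lit 0xcb30000afd0) (nat_lit 16)
(Net.cons (nat_lit 0x10098008a0098) (nat_lit 8)
(Net.cons (nat_lit 0xe080002040e08) (nat_lit 4)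
(Net.cons (nat_lit 0x222202020220) (nat_lit 2)
(Net.cons (nat_lit 0x10141101444445) (nat_lit 1)
(Net.cons (nat_lit 0x1003212123201223) (nat_lit 2)
(Net.cons (nat_lit 0x20e0008030a0f08) (nat_lit 4)
(Net.cons (nat_lit 0xd0067009a00e8) (nat_lit 8)
(Net.cons (nat_lit 0xcb30000bac8) (nat_lit 16)
(Net.cons (nat_lit 0x1) (nat_lit 32)
Net.nil)))))))))))

noncomputable def n8 : Net :=
(Net.cons (nat_lit 0x8b2e50) (nat_lit 32)
(Net.cons (nat_lit 0x4100000097e0) (nat_lit 16)
(Net.cons (nat_lit 0x4000c0008000e6) (nat_lit 8)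
(Net.cons (nat_lit 0x200060004000004) (nat_lit 4)
(Net.cons (nat_lit 0x20002000200) (nat_lit 2)
(Net.cons (nat_lit 0x440444000401) (nat_lit 1)
(Net.cons (nat_lit 0x210031002102201) (nat_lit 2)
(Net.cons (nat_lit 0x2020c09040a0107) (nat_lit 4)
(Net.cons (nat_lit 0x40000d00c100ee) (nat_lit 8)
(Net.cons (nat_lit 0x41000000d5f0) (nat_lit 16)
(Net.cons (nat_lit 0x9f5c01) (nat_lit 32)
Net.nil)))))))))))

noncomputable def T : List Net := [n0, n1, n2, n3, n4, n5, n6, n7, n8]

theorem ok : TOK 63 T := TOK_of_ok (by decide +kernel)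

def E : List (List Nat × List Nat) :=
  []

theorem sat : Sat (sig T) R :=
  sat_of_relsP ok (by norm_num) (show relsP (nat_lit 63) (nat_lit 6) (nat_lit 0) (nat_lit 6) T R = true by decide +kernel)

theorem eqs : ∀ e ∈ E, ev (sig T) e.1 = ev (sig T) e.2 := eqs_nil _

def lowW1 : List (List Nat) := [[0],
   [1],
   [2],
   [3],
   [4],
   [5],
   [6],
   [7]]

def lowW2 : List (List Nat) := [[0],
   [1],
   [2],
   [3],
   [4],
   [5],
   [6]]

def lowW3 : List (List Nat) := [[0],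
   [1],
   [2],
   [3],
   [4],
   [5]]

def lowW4 : List (List Nat) := [[0],
   [1],
   [2]]

def lowW5 : List (List Nat) := [[0]]

theorem low_5 : 2 ≤ Nat.card (genW (sig T) lowW5) :=
  chain_step (W' := []) (b := 41) (n := 2) (m := 1) ok (le_of_subOK eqs (show subOK lowW5 [] E = true by decide +kernel)) (by decide +kernel)
    (le_ncard_of_orbGe ok (by norm_num) (show orbGe (nat_lit 63) (nat_lit 6) T lowW5 [0] (nat_lit 41) (nat_lit 2) = true by decide +kernel))
    (chain_base ok [])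

theorem low_4 : 8 ≤ Nat.card (genW (sig T) lowW4) :=
  chain_step (W' := lowW5) (b := 62) (n := 4) (m := 2) ok (le_of_subOK eqs (show subOK lowW4 lowW5 E = true by decide +kernel)) (by decide +kernel)
    (le_ncard_of_orbGe ok (by norm_num) (show orbGe (nat_lit 63) (nat_lit 6) T lowW4 [1, 2] (nat_lit 62) (nat_lit 4) = true by decide +kernel))
    low_5

theorem low_3 : 64 ≤ Nat.card (genW (sig T) lowW3) :=
  chain_step (W' := lowW4) (b := 31) (n := 8) (m := 8) ok (le_of_subOK eqs (show subOK lowW3 lowW4 E = true by decide +kernel)) (by decide +kernel)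
    (le_ncard_of_orbGe ok (by norm_num) (show orbGe (nat_lit 63) (nat_lit 6) T lowW3 [3, 4, 5] (nat_lit 31) (nat_lit 8) = true by decide +kernel))
    low_4

theorem low_2 : 768 ≤ Nat.card (genW (sig T) lowW2) :=
  chain_step (W' := lowW3) (b := 2) (n := 12) (m := 64) ok (le_of_subOK eqs (show subOK lowW2 lowW3 E = true by decide +kernel)) (by decide +kernel)
    (le_ncard_of_orbGe ok (by norm_num) (show orbGe (nat_lit 63) (nat_lit 6) T lowW2 [6, 0, 2, 4, 6] (nat_lit 2) (nat_lit 12) = true by decide +kernel))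
    low_3

theorem low_1 : 23040 ≤ Nat.card (genW (sig T) lowW1) :=
  chain_step (W' := lowW2) (b := 1) (n := 30) (m := 768) ok (le_of_subOK eqs (show subOK lowW1 lowW2 E = true by decide +kernel)) (by decide +kernel)
    (le_ncard_of_ivl (a := 1) ok (by norm_num) (show Nat.beq (grow T lowW1 [7, 6, 0, 2, 4, 7, 6, 2, 7] (pt (nat_lit 1))) (ivl (nat_lit 1) (nat_lit 30)) = true by decide +kernel))
    low_2

theorem low : 1451520 ≤ Nat.card (genW (sig T) (letters 9)) :=
  chain_step (W' := lowW1) (b := 0) (n := 63) (m := 23040) ok (le_of_subOK eqs (show subOK (letters 9) lowW1 E = true by decide +kernel)) (by decide +kernel)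
    (le_ncard_of_ivl (a := 0) ok (by norm_num) (show Nat.beq (grow T (letters 9) [8, 6, 0, 2, 4, 7, 8, 6, 2, 4, 7] (pt (nat_lit 0))) (ivl (nat_lit 0) (nat_lit 63)) = true by decide +kernel))
    low_1


end Cfsg.Agent.SchurG.S62
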