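import Cfsg.Agent.Comp.TC
import Cfsg.Agent.SchurG.S62.Pres

set_option autoImplicit false
set_option maxRecDepth 100000

namespace Cfsg.Agent.SchurG.S62.Top
open Cfsg.Agent.Comp

noncomputable def t0 : Tr := (Tr.node (nat_lit 1) (Tr.node (nat_lit 0) (Tr.leaf (nat_lit 0x8729fffc05a00140c3e145c2570317064c04701134314fffe2acc0598014073c067818f019e053c0a7a209ffff002602c8058831806520c880d5829d02310e4ffff80b000261a7021301ad064c0a5c0cf81178527fffc05780ae0a36004c1ca0216082a0a6c08b4213fffe0ca405680ac0a28004c10a831605340456089ffff0156069810c8415052c085000982990228d04bfff8012015404601ce81a20152068010c019d6725fffc0540012014e167c0d0829f043802980ce3292fffe029405200a300240c6414d839a042c066d9097fff014402840ca839900240a6824d82150334c44bfff80a0013e027824d041b0532004810a01996025fffc04e809c0326026c04d01920132084c0092311fffe026004b8011012c025410980940324024ca087fff00200444049011102220444088811102220003fff8091012002400480090012002400480090))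
(Tr.leaf (nat_lit 0xa837fffc00d85b40e5e1694210052b09440cbc0d2d39bfffe16d400d80c20542107c2508424095a06929cd7fff0664006806081a402380e90190852e03434c6bfff89ac165800682d602ac055816b0196022ca833fffc00c84b701800e8019285af023a0cac0d04398fffe048400c00bf0a5006a021a03b20a6e08ca0cc7fff053412c005f04a2053a00601d282a90745105ffff8017024402f42d5022a066a0ec029c8230862ffffc35381a7002e02f02d387ba017606e8393c097fffe12e408c80ba07380c9014e029f002e067e20b7fff002c02e405c062f0756128021482a5045f0e5bfff80b7002c149011683a6085a0eb8210822e862dfffc09180b6002c068c29184230a460a8c251c415fffe00540d404220a52046014e852f054410a61caffff03540054090832e022e14b815684a4045b1053fff8014016a1a8021584af0a4a0460150022b)))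
(Tr.node (nat_lit 2) (Tr.leaf (nat_lit 0xa655fffc3e602cb005433181660c47019c171855fd329fffe24f88618029019a4514218853e067c12fa9947fff0e7a03300140bc701962d1806505c7177b4a9ffff89c110781af0013863c1092250812487bca24ffffc39d873a0e76230831d8848004e09203ddd326fffe18e83dd8026019218e839380c8024e1aea9d2ffff084c00940638637026e14c82da04a809694c97fff81b81f80009442187c40e801ee019c07b8a849fffc012042b018c1ae40dc85300c6a12a825ad3a3fffe16d801185b60b6c16d831b05b60b6c14da9d07fff0a5c00804da863402680ea035b84320a6f507ffff801f0a5e2ad035a81b5075414e40d80539a73dfffc50f001e0d6610cc11983b307660ccc199d39dfffe0ab400e8a320b600cc02dc842a096a06aa98effff1186031400e80c4018612f82d8833104635073fff801c085228c031903b20b6e0ca011a01a8))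
(Tr.leaf (nat_lit 0x1fffffffffffffffffffffffffffffffffffffe13ffffe31186250ace19982d185e5803f17982d3b15f7fff10803f102e6803e0a8013102e683cd0a9b8ef7fff883f007a13306a7023f18942f186270b4cc47bfffc3e5823f0996352801e8c4e198e33285a5e13dfffe1f286670aca1b96351c666003d1a96312b15d7fff128427083a4803a0d921ef03e081bc0e9384ebfff86c805901b203a086c80f7600e80dd8748c673fffc3638e4600722cf46e50bbf1a9614f4623e337fffe33387638037187e2f3855e8c4c0a7e291b1d8ffff128a00c45629040217c430c1e28645058b8ac7fff8844209a111001887380a9a19101e202c4c463fffc418903e07861ee001891450c860f0c161e32efffe2324524802e1076190826088bc0a82190b196ffff14782b0401687c80a82150842485c205838caffff87cd1e7000ac86285cd0d7019001e00640))))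

noncomputable def T : Tr := t0

def RT : List (List (List Nat)) := [
  [[nat_lit 2, nat_lit 0, nat_lit 2],
   [nat_lit 4, nat_lit 0, nat_lit 4],
   [nat_lit 5, nat_lit 0, nat_lit 5],
   [nat_lit 7, nat_lit 0, nat_lit 7],
   [nat_lit 8, nat_lit 0, nat_lit 8],
   [nat_lit 10],
   [nat_lit 6, nat_lit 0, nat_lit 6, nat_lit 0, nat_lit 6],
   [nat_lit 3, nat_lit 0, nat_lit 3],
   [nat_lit 3, nat_lit 6, nat_lit 0, nat_lit 3, nat_lit 6],
   [nat_lit 1, nat_lit 0, nat_lit 1]],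
  [[nat_lit 6, nat_lit 1, nat_lit 6],
   [nat_lit 2, nat_lit 1, nat_lit 2],
   [nat_lit 5, nat_lit 1, nat_lit 5],
   [nat_lit 7, nat_lit 2, nat_lit 0, nat_lit 7],
   [nat_lit 8, nat_lit 1, nat_lit 8],
   [nat_lit 4, nat_lit 1, nat_lit 4],
   [nat_lit 10],
   [nat_lit 0, nat_lit 1, nat_lit 0],
   [nat_lit 3, nat_lit 1, nat_lit 3],
   [nat_lit 7, nat_lit 0, nat_lit 2, nat_lit 7]],
  [[nat_lit 8, nat_lit 2, nat_lit 8],
   [nat_lit 7, nat_lit 1, nat_lit 7, nat_lit 0],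
   [nat_lit 1, nat_lit 2, nat_lit 1],
   [nat_lit 4, nat_lit 2, nat_lit 4],
   [nat_lit 5, nat_lit 2, nat_lit 5],
   [nat_lit 10],
   [nat_lit 6, nat_lit 2, nat_lit 6, nat_lit 2, nat_lit 6, nat_lit 2, nat_lit 6],
   [nat_lit 0, nat_lit 7, nat_lit 1, nat_lit 7],
   [nat_lit 0, nat_lit 6, nat_lit 4, nat_lit 5, nat_lit 6, nat_lit 5, nat_lit 4, nat_lit 6],
   [nat_lit 3, nat_lit 2, nat_lit 3]],
  [[nat_lit 10],
   [nat_lit 8, nat_lit 3, nat_lit 4, nat_lit 8],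
   [nat_lit 0, nat_lit 6, nat_lit 3, nat_lit 0, nat_lit 6],
   [nat_lit 2, nat_lit 3, nat_lit 2],
   [nat_lit 4, nat_lit 3, nat_lit 4],
   [nat_lit 5, nat_lit 3, nat_lit 5],
   [nat_lit 8, nat_lit 4, nat_lit 3, nat_lit 8],
   [nat_lit 7, nat_lit 1, nat_lit 3, nat_lit 7, nat_lit 1],
   [nat_lit 1, nat_lit 7, nat_lit 3, nat_lit 1, nat_lit 7],
   [nat_lit 8, nat_lit 3, nat_lit 8, nat_lit 4],
   [nat_lit 1, nat_lit 3, nat_lit 1],
   [nat_lit 0, nat_lit 3, nat_lit 0],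
   [nat_lit 5, nat_lit 6, nat_lit 2, nat_lit 6, nat_lit 4, nat_lit 6, nat_lit 2, nat_lit 6],
   [nat_lit 6, nat_lit 0, nat_lit 3, nat_lit 6, nat_lit 0]],
  [[nat_lit 7, nat_lit 4, nat_lit 7],
   [nat_lit 8, nat_lit 4, nat_lit 8],
   [nat_lit 7, nat_lit 8, nat_lit 7, nat_lit 8],
   [nat_lit 10],
   [nat_lit 3, nat_lit 8, nat_lit 3, nat_lit 8],
   [nat_lit 6, nat_lit 4, nat_lit 6, nat_lit 0, nat_lit 1, nat_lit 3, nat_lit 4, nat_lit 6],
   [nat_lit 6, nat_lit 2, nat_lit 6, nat_lit 3, nat_lit 5, nat_lit 6, nat_lit 2, nat_lit 6],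
   [nat_lit 6, nat_lit 2, nat_lit 0, nat_lit 6, nat_lit 4, nat_lit 5, nat_lit 6, nat_lit 5],
   [nat_lit 0, nat_lit 4, nat_lit 0],
   [nat_lit 5, nat_lit 6, nat_lit 5, nat_lit 4, nat_lit 6, nat_lit 2, nat_lit 0, nat_lit 6],
   [nat_lit 5, nat_lit 6, nat_lit 5, nat_lit 4, nat_lit 6, nat_lit 0, nat_lit 2, nat_lit 6],
   [nat_lit 3, nat_lit 4, nat_lit 3],
   [nat_lit 6, nat_lit 4, nat_lit 3, nat_lit 1, nat_lit 0, nat_lit 6, nat_lit 4, nat_lit 6],
   [nat_lit 6, nat_lit 2, nat_lit 6, nat_lit 5, nat_lit 3, nat_lit 6, nat_lit 2, nat_lit 6],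
   [nat_lit 1, nat_lit 4, nat_lit 1],
   [nat_lit 2, nat_lit 4, nat_lit 2],
   [nat_lit 5, nat_lit 4, nat_lit 5],
   [nat_lit 7, nat_lit 6, nat_lit 7, nat_lit 4, nat_lit 6, nat_lit 8, nat_lit 6, nat_lit 7, nat_lit 4, nat_lit 6, nat_lit 7, nat_lit 4, nat_lit 6, nat_lit 8, nat_lit 6]],
  [[nat_lit 7, nat_lit 0, nat_lit 4, nat_lit 5, nat_lit 7],
   [nat_lit 0, nat_lit 5, nat_lit 0],
   [nat_lit 3, nat_lit 6, nat_lit 2, nat_lit 6, nat_lit 4, nat_lit 6, nat_lit 2, nat_lit 6],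
   [nat_lit 10],
   [nat_lit 8, nat_lit 1, nat_lit 2, nat_lit 4, nat_lit 5, nat_lit 8],
   [nat_lit 6, nat_lit 5, nat_lit 6, nat_lit 5, nat_lit 6, nat_lit 5, nat_lit 6],
   [nat_lit 4, nat_lit 5, nat_lit 4],
   [nat_lit 2, nat_lit 5, nat_lit 2],
   [nat_lit 4, nat_lit 0, nat_lit 7, nat_lit 5, nat_lit 7],
   [nat_lit 1, nat_lit 5, nat_lit 1],
   [nat_lit 3, nat_lit 5, nat_lit 3],
   [nat_lit 6, nat_lit 2, nat_lit 6, nat_lit 4, nat_lit 6, nat_lit 2, nat_lit 6, nat_lit 3],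
   [nat_lit 7, nat_lit 5, nat_lit 4, nat_lit 0, nat_lit 7]],
  [[nat_lit 0, nat_lit 6, nat_lit 0, nat_lit 6, nat_lit 0],
   [nat_lit 2, nat_lit 0, nat_lit 6, nat_lit 0, nat_lit 2, nat_lit 6, nat_lit 2, nat_lit 0],
   [nat_lit 4, nat_lit 6, nat_lit 0, nat_lit 1, nat_lit 3, nat_lit 4, nat_lit 6, nat_lit 4],
   [nat_lit 4, nat_lit 6, nat_lit 4, nat_lit 3, nat_lit 1, nat_lit 0, nat_lit 6, nat_lit 4],
   [nat_lit 10],
   [nat_lit 8, nat_lit 6, nat_lit 8, nat_lit 6, nat_lit 8, nat_lit 6, nat_lit 8],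
   [nat_lit 3, nat_lit 0, nat_lit 6, nat_lit 3, nat_lit 0],
   [nat_lit 5, nat_lit 6, nat_lit 5, nat_lit 6, nat_lit 5, nat_lit 6, nat_lit 5],
   [nat_lit 7, nat_lit 6, nat_lit 7, nat_lit 6, nat_lit 7, nat_lit 6, nat_lit 7],
   [nat_lit 7, nat_lit 4, nat_lit 6, nat_lit 8, nat_lit 6, nat_lit 4, nat_lit 7, nat_lit 6, nat_lit 4, nat_lit 7, nat_lit 6, nat_lit 8, nat_lit 6, nat_lit 4, nat_lit 7],
   [nat_lit 1, nat_lit 6, nat_lit 1],
   [nat_lit 5, nat_lit 4, nat_lit 6, nat_lit 2, nat_lit 0, nat_lit 6, nat_lit 4, nat_lit 5],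
   [nat_lit 2, nat_lit 6, nat_lit 2, nat_lit 6, nat_lit 2, nat_lit 6, nat_lit 2]],
  [[nat_lit 1, nat_lit 7, nat_lit 0, nat_lit 2],
   [nat_lit 8, nat_lit 7, nat_lit 4, nat_lit 8],
   [nat_lit 4, nat_lit 7, nat_lit 4],
   [nat_lit 10],
   [nat_lit 8, nat_lit 4, nat_lit 7, nat_lit 8],
   [nat_lit 6, nat_lit 7, nat_lit 6, nat_lit 7, nat_lit 6, nat_lit 7, nat_lit 6],
   [nat_lit 2, nat_lit 1, nat_lit 7, nat_lit 2, nat_lit 1],
   [nat_lit 1, nat_lit 7, nat_lit 2, nat_lit 0],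
   [nat_lit 0, nat_lit 4, nat_lit 5, nat_lit 7, nat_lit 5],
   [nat_lit 4, nat_lit 6, nat_lit 7, nat_lit 4, nat_lit 6, nat_lit 8, nat_lit 6, nat_lit 4, nat_lit 7, nat_lit 6, nat_lit 7, nat_lit 4, nat_lit 6, nat_lit 8, nat_lit 6],
   [nat_lit 5, nat_lit 7, nat_lit 0, nat_lit 4, nat_lit 5]],
  [[nat_lit 7, nat_lit 8, nat_lit 4, nat_lit 7],
   [nat_lit 0, nat_lit 8, nat_lit 0],
   [nat_lit 3, nat_lit 8, nat_lit 3, nat_lit 4],
   [nat_lit 4, nat_lit 8, nat_lit 4],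
   [nat_lit 6, nat_lit 5, nat_lit 6, nat_lit 8, nat_lit 0, nat_lit 2, nat_lit 4, nat_lit 6, nat_lit 5, nat_lit 6, nat_lit 8, nat_lit 6, nat_lit 5, nat_lit 6],
   [nat_lit 7, nat_lit 4, nat_lit 8, nat_lit 7],
   [nat_lit 6, nat_lit 8, nat_lit 6, nat_lit 8, nat_lit 6, nat_lit 8, nat_lit 6],
   [nat_lit 5, nat_lit 8, nat_lit 1, nat_lit 2, nat_lit 4, nat_lit 5],
   [nat_lit 3, nat_lit 8, nat_lit 4, nat_lit 3],
   [nat_lit 6, nat_lit 7, nat_lit 4, nat_lit 6, nat_lit 7, nat_lit 4, nat_lit 6, nat_lit 8, nat_lit 6, nat_lit 4, nat_lit 7, nat_lit 6, nat_lit 7, nat_lit 4, nat_lit 6],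
   [nat_lit 1, nat_lit 8, nat_lit 1],
   [nat_lit 2, nat_lit 8, nat_lit 2],
   [nat_lit 5, nat_lit 4, nat_lit 2, nat_lit 1, nat_lit 8, nat_lit 5],
   [nat_lit 6, nat_lit 4, nat_lit 7, nat_lit 6, nat_lit 7, nat_lit 4, nat_lit 6, nat_lit 8, nat_lit 6, nat_lit 7, nat_lit 4, nat_lit 6, nat_lit 7, nat_lit 4, nat_lit 6]],
  []]

def HT : List (List (Nat × Nat × Nat)) := [
  [(0, 10, 1), (0, 15, 1), (0, 19, 1), (0, 33, 1), (0, 40, 1), (2, 0, 0), (0, 26, 1), (0, 12, 1), (0, 25, 1), (0, 9, 1)],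
  [(0, 24, 1), (0, 11, 1), (0, 20, 1), (1, 35, 2), (0, 41, 1), (0, 16, 1), (2, 1, 0), (0, 9, 0), (0, 13, 1), (0, 35, 4)],
  [(0, 42, 1), (0, 35, 2), (0, 11, 0), (0, 17, 1), (0, 21, 1), (2, 2, 0), (0, 27, 1), (1, 35, 4), (1, 32, 8), (0, 14, 1)],
  [(2, 3, 0), (0, 44, 4), (1, 25, 2), (0, 14, 0), (0, 18, 1), (0, 22, 1), (1, 44, 2), (0, 37, 2), (1, 37, 2), (1, 44, 0), (0, 13, 0), (0, 12, 0), (0, 31, 3), (0, 25, 2)],
  [(0, 34, 1), (0, 43, 1), (0, 45, 1), (2, 4, 0), (1, 44, 4), (0, 29, 6), (0, 31, 8), (1, 32, 6), (0, 15, 0), (1, 32, 2), (0, 32, 4), (0, 18, 0), (1, 29, 4), (1, 31, 2), (0, 16, 0), (0, 17, 0), (0, 23, 1), (0, 50, 8)],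
  [(0, 36, 5), (0, 19, 0), (1, 31, 6), (2, 5, 0), (0, 47, 6), (0, 28, 1), (0, 23, 0), (0, 21, 0), (1, 36, 4), (0, 20, 0), (0, 22, 0), (0, 31, 4), (1, 36, 2)],
  [(0, 26, 0), (1, 30, 7), (0, 29, 7), (1, 29, 3), (2, 6, 0), (0, 48, 1), (1, 25, 1), (0, 28, 0), (0, 38, 1), (1, 50, 7), (0, 24, 0), (1, 32, 4), (0, 27, 0)],
  [(0, 35, 3), (1, 45, 2), (0, 34, 0), (2, 7, 0), (0, 45, 4), (0, 38, 0), (1, 46, 1), (1, 35, 1), (0, 36, 0), (0, 50, 0), (0, 36, 4)],
  [(0, 45, 3), (0, 40, 0), (0, 44, 3), (0, 43, 0), (0, 49, 11), (1, 45, 3), (0, 48, 0), (0, 47, 5), (1, 44, 1), (0, 50, 14), (0, 41, 0), (0, 42, 0), (1, 47, 3), (0, 50, 6)],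
  []]

def W : List (List Nat) := [[0],
   [1],
   [2],
   [3],
   [4],
   [5],
   [6],
   [7]]

noncomputable def P : Par := ⟨T, (nat_lit 4), (nat_lit 15), (nat_lit 165), (nat_lit 15), (nat_lit 32767), (nat_lit 7), (nat_lit 127), (nat_lit 9), (nat_lit 79), (nat_lit 80), (nat_lit 0x2928398a418820), RT⟩

noncomputable def J0 : List Nat := [
  nat_lit 0x12e10004d840012e100041840011e100047840012610004784004c610c6601a081008000020800060a4040004000100e08008000004070020a08000101000041000004001a40004100101800000e08204438254806000119ca68200000048429d5044000128000001904004c6000060020814090441208000405000086c1001,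
  nat_lit 0x184000040820400280405c100101808181008205425396782030101cc000190400406014000020812c12284800800560001c08276010000b0000382052a14131800201000401a8104404c6100690020814090439e09d004a00184204100129c0610c104004c611469402081,
  nat_lit 0x30040001048205025800082000128000189904604a54a4425417810184b001848204070008b3c12812ad2a109504e04a61300001208148960002081004c60348c041281408048020816044082088189681200009414a9804a0000008206014094f0020814056000000820381,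
  nat_lit 0x188a400209c80500001e0829001588cf836081c04672820a0ac481210c06c1480a04ab49e4e54110140804036080005620300d82440110e0962d721a048431e50582001102081a0701a04aa5820b0ab281180a59815040048431d9050400111e0990870980408102040810204081]

theorem c0 : chk T (nat_lit 4) (nat_lit 15) (nat_lit 165) (nat_lit 15) (nat_lit 32767) (nat_lit 7) (nat_lit 127) (nat_lit 9) (nat_lit 79) (nat_lit 80) (nat_lit 0x2928398a418820) (nat_lit 5) (nat_lit 31) RT (nat_lit 16) J0 (nat_lit 16) = true := by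
  decide +kernel

theorem r0 : P.RowsOK 16 80 := chk_sound P _ _ _ J0 _ _ (by decide +kernel) c0

theorem index.{u} : IndexLe.{u} 9 S62.R W 63 :=
  indexLe_of_cert P HT (by decide +kernel)
    (show P.RowsOK 16 80 from r0)

end Cfsg.Agent.SchurG.S62.Top
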