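import Cfsg.Agent.SchurG.S62.Pres
import Cfsg.Agent.SchurG.S62.Top

set_option autoImplicit false
set_option maxRecDepth 100000

namespace Cfsg.Agent.SchurG.S62
open Cfsg.Agent.Comp

namespace Tk4

noncomputable def t0 : Tr := (Tr.leaf (nat_lit 0x1fffff800fffffc007ffffe003fffff001fffff800fffffc007ffffe003fffff001fffff800fffffc007ffffe003fffff001fffff800fffffe087ff020003ff831))

noncomputable def T : Tr := t0

def RT : List (List (List Nat)) := [
  [],
  []]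

def HT : List (List (Nat × Nat × Nat)) := [
  [],
  []]

def R : List (List Nat) :=
  [[0, 0]]

def W : List (List Nat) := []

noncomputable def P : Par := ⟨T, (nat_lit 4), (nat_lit 15), (nat_lit 33), (nat_lit 11), (nat_lit 2047), (nat_lit 5), (nat_lit 31), (nat_lit 1), (nat_lit 18), (nat_lit 32), (nat_lit 0x820), RT⟩

noncomputable def J0 : List Nat := [
  nat_lit 0x69249249249249249249249]

theorem c0 : chk T (nat_lit 4) (nat_lit 15) (nat_lit 33) (nat_lit 11) (nat_lit 2047) (nat_lit 5) (nat_lit 31) (nat_lit 1) (nat_lit 18) (nat_lit 32) (nat_lit 0x820) (nat_lit 1) (nat_lit 1) RT (nat_lit 16) J0 (nat_lit 16) = true := by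
  decide +kernel

theorem r0 : P.RowsOK 16 32 := chk_sound P _ _ _ J0 _ _ (by decide +kernel) c0

theorem index.{u} : IndexLe.{u} 1 R W 2 :=
  indexLe_of_cert P HT (by decide +kernel)
    (show P.RowsOK 16 32 from r0)

end Tk4

theorem upK_4 : CardLe (genW s [[0]]) 2 :=
  CardLe.tc (V' := []) (n := 2) (m := 1) [0] Tk4.index pres.sat (by decide +kernel) (by decide +kernel) (by decide +kernel) (cardLe_nil s)

namespace Tk3

noncomputable def t0 : Tr := (Tr.leaf (nat_lit 0xffffffffffff000ffffffffffff000ffffffffffff000ffffffffffff000ffffffffffff000ffffffffffff000ffffffffffff000ffffffffffff000ffffffffffff000ffffffffffff000ffffffffffff000ffffffffffff851fff011052073450fff010073052430fff033010051000fff032031030))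

noncomputable def T : Tr := t0

def RT : List (List (List Nat)) := [
  [[nat_lit 4],
   [nat_lit 1, nat_lit 0, nat_lit 1],
   [nat_lit 2, nat_lit 0, nat_lit 2]],
  [[nat_lit 2, nat_lit 1, nat_lit 2]],
  [],
  []]

def HT : List (List (Nat × Nat × Nat)) := [
  [(2, 0, 0), (0, 3, 1), (0, 4, 1)],
  [(0, 5, 1)],
  [],
  []]

def R : List (List Nat) :=
  [[0, 0],
   [1, 1],
   [2, 2],
   [0, 1, 0, 1],
   [0, 2, 0, 2],
   [1, 2, 1, 2]]

def W : List (List Nat) := [[0]]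

noncomputable def P : Par := ⟨T, (nat_lit 4), (nat_lit 15), (nat_lit 60), (nat_lit 12), (nat_lit 4095), (nat_lit 5), (nat_lit 31), (nat_lit 3), (nat_lit 20), (nat_lit 32), (nat_lit 0x418820), RT⟩

noncomputable def J0 : List Nat := [
  nat_lit 0x8c801710182218a21084210842108421084210842108421084210842108421084210842108421]

theorem c0 : chk T (nat_lit 4) (nat_lit 15) (nat_lit 60) (nat_lit 12) (nat_lit 4095) (nat_lit 5) (nat_lit 31) (nat_lit 3) (nat_lit 20) (nat_lit 32) (nat_lit 0x418820) (nat_lit 3) (nat_lit 7) RT (nat_lit 16) J0 (nat_lit 16) = true := by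
  decide +kernel

theorem r0 : P.RowsOK 16 32 := chk_sound P _ _ _ J0 _ _ (by decide +kernel) c0

theorem index.{u} : IndexLe.{u} 3 R W 4 :=
  indexLe_of_cert P HT (by decide +kernel)
    (show P.RowsOK 16 32 from r0)

end Tk3

theorem upK_3 : CardLe (genW s [[0], [1], [2]]) 8 :=
  CardLe.tc (V' := [[0]]) (n := 4) (m := 2) [0, 1, 2] Tk3.index pres.sat (by decide +kernel) (by decide +kernel) (by decide +kernel) upK_4

namespace Tk2

noncomputable def t0 : Tr := (Tr.leaf (nat_lit 0xfffffffffffffffffffff000fffffffffffffffffffff000fffffffffffffffffffff000fffffffffffffffffffff000fffffffffffffffffffff000fffffffffffffffffffff000fffffffffffffffffffff000fffffffffffffffffffffcb4fff0140550760970970978b2fff0120530970760760768b1fff011077053075075075891fff0370110520740740744b0fff010076075053053053490fff036010074052052052470fff035034010051051051000fff033032031030030030))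

noncomputable def T : Tr := t0

def RT : List (List (List Nat)) := [
  [[nat_lit 7],
   [nat_lit 3, nat_lit 0, nat_lit 3],
   [nat_lit 4, nat_lit 0, nat_lit 4],
   [nat_lit 5, nat_lit 0, nat_lit 5]],
  [[nat_lit 7],
   [nat_lit 3, nat_lit 1, nat_lit 3],
   [nat_lit 4, nat_lit 1, nat_lit 4],
   [nat_lit 5, nat_lit 1, nat_lit 5]],
  [[nat_lit 7],
   [nat_lit 3, nat_lit 2, nat_lit 3],
   [nat_lit 4, nat_lit 2, nat_lit 4],
   [nat_lit 5, nat_lit 2, nat_lit 5]],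
  [[nat_lit 4, nat_lit 3, nat_lit 4],
   [nat_lit 5, nat_lit 3, nat_lit 5]],
  [[nat_lit 5, nat_lit 4, nat_lit 5]],
  [],
  []]

def HT : List (List (Nat × Nat × Nat)) := [
  [(2, 0, 0), (0, 9, 1), (0, 12, 1), (0, 16, 1)],
  [(2, 1, 0), (0, 10, 1), (0, 13, 1), (0, 17, 1)],
  [(2, 2, 0), (0, 11, 1), (0, 14, 1), (0, 18, 1)],
  [(0, 15, 1), (0, 19, 1)],
  [(0, 20, 1)],
  [],
  []]

def R : List (List Nat) :=
  [[0, 0],
   [1, 1],
   [2, 2],
   [3, 3],
   [4, 4],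
   [5, 5],
   [0, 1, 0, 1],
   [0, 2, 0, 2],
   [1, 2, 1, 2],
   [0, 3, 0, 3],
   [1, 3, 1, 3],
   [2, 3, 2, 3],
   [0, 4, 0, 4],
   [1, 4, 1, 4],
   [2, 4, 2, 4],
   [3, 4, 3, 4],
   [0, 5, 0, 5],
   [1, 5, 1, 5],
   [2, 5, 2, 5],
   [3, 5, 3, 5],
   [4, 5, 4, 5]]

def W : List (List Nat) := [[0],
   [1],
   [2]]

noncomputable def P : Par := ⟨T, (nat_lit 4), (nat_lit 15), (nat_lit 96), (nat_lit 12), (nat_lit 4095), (nat_lit 5), (nat_lit 31), (nat_lit 6), (nat_lit 24), (nat_lit 32), (nat_lit 0x398a418820), RT⟩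

noncomputable def J0 : List Nat := [
  nat_lit 0x2320008c800232000b6e20064822036d0221922880db58886da14436d6a210842108421084210842108421084210842108421084210842108421084210842108421]

theorem c0 : chk T (nat_lit 4) (nat_lit 15) (nat_lit 96) (nat_lit 12) (nat_lit 4095) (nat_lit 5) (nat_lit 31) (nat_lit 6) (nat_lit 24) (nat_lit 32) (nat_lit 0x398a418820) (nat_lit 3) (nat_lit 7) RT (nat_lit 16) J0 (nat_lit 16) = true := by
  decide +kernel

theorem r0 : P.RowsOK 16 32 := chk_sound P _ _ _ J0 _ _ (by decide +kernel) c0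

theorem index.{u} : IndexLe.{u} 6 R W 8 :=
  indexLe_of_cert P HT (by decide +kernel)
    (show P.RowsOK 16 32 from r0)

end Tk2

theorem upK_2 : CardLe (genW s [[0], [1], [2], [3], [4], [5]]) 64 :=
  CardLe.tc (V' := [[0], [1], [2]]) (n := 8) (m := 8) [0, 1, 2, 3, 4, 5] Tk2.index pres.sat (by decide +kernel) (by decide +kernel) (by decide +kernel) upK_3

namespace Tk1

noncomputable def t0 : Tr := (Tr.leaf (nat_lit 0x7fffffffffffffffffffffffff8003fffffffffffffffffffffffffc001fffffffffffffffffffffffffe000ffffffffffffffffffffffffff86bfffc02e17b04d82ec2f60bb04db357ffe01502d056823415a04d04e99a7fff00983e40b20d902c8264172cb2fff85600240f303a84501300556497ffc07615300901d01aa09702a314bffe09608a02d40e601204b014d163fff01d00441ac09807b81d40f0891fff81501ec01104b84e00e8077428fffc07213708c025802207303b2047ffe05201c00dc0a203603900449a1fff00800d40680720198144064000fff80c406003001800c0060030))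

noncomputable def T : Tr := t0

def RT : List (List (List Nat)) := [
  [[nat_lit 2, nat_lit 0, nat_lit 2],
   [nat_lit 4, nat_lit 0, nat_lit 4],
   [nat_lit 5, nat_lit 0, nat_lit 5],
   [nat_lit 8],
   [nat_lit 6, nat_lit 0, nat_lit 6, nat_lit 0, nat_lit 6],
   [nat_lit 3, nat_lit 6, nat_lit 0, nat_lit 3, nat_lit 6]],
  [[nat_lit 8],
   [nat_lit 6, nat_lit 1, nat_lit 6],
   [nat_lit 0, nat_lit 1, nat_lit 0],
   [nat_lit 2, nat_lit 1, nat_lit 2],
   [nat_lit 4, nat_lit 1, nat_lit 4],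
   [nat_lit 5, nat_lit 1, nat_lit 5]],
  [[nat_lit 8],
   [nat_lit 6, nat_lit 2, nat_lit 6, nat_lit 2, nat_lit 6, nat_lit 2, nat_lit 6],
   [nat_lit 4, nat_lit 2, nat_lit 4],
   [nat_lit 0, nat_lit 6, nat_lit 4, nat_lit 5, nat_lit 6, nat_lit 5, nat_lit 4, nat_lit 6]],
  [[nat_lit 8],
   [nat_lit 0, nat_lit 6, nat_lit 3, nat_lit 0, nat_lit 6],
   [nat_lit 2, nat_lit 3, nat_lit 2],
   [nat_lit 4, nat_lit 3, nat_lit 4],
   [nat_lit 5, nat_lit 3, nat_lit 5],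
   [nat_lit 5, nat_lit 6, nat_lit 2, nat_lit 6, nat_lit 4, nat_lit 6, nat_lit 2, nat_lit 6]],
  [[nat_lit 6, nat_lit 4, nat_lit 6, nat_lit 0, nat_lit 1, nat_lit 3, nat_lit 4, nat_lit 6],
   [nat_lit 8],
   [nat_lit 6, nat_lit 2, nat_lit 6, nat_lit 3, nat_lit 5, nat_lit 6, nat_lit 2, nat_lit 6],
   [nat_lit 6, nat_lit 2, nat_lit 0, nat_lit 6, nat_lit 4, nat_lit 5, nat_lit 6, nat_lit 5],
   [nat_lit 0, nat_lit 4, nat_lit 0],
   [nat_lit 5, nat_lit 6, nat_lit 5, nat_lit 4, nat_lit 6, nat_lit 2, nat_lit 0, nat_lit 6]],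
  [[nat_lit 3, nat_lit 6, nat_lit 2, nat_lit 6, nat_lit 4, nat_lit 6, nat_lit 2, nat_lit 6],
   [nat_lit 8],
   [nat_lit 6, nat_lit 5, nat_lit 6, nat_lit 5, nat_lit 6, nat_lit 5, nat_lit 6],
   [nat_lit 4, nat_lit 5, nat_lit 4]],
  [[nat_lit 0, nat_lit 6, nat_lit 0, nat_lit 6, nat_lit 0],
   [nat_lit 2, nat_lit 0, nat_lit 6, nat_lit 0, nat_lit 2, nat_lit 6, nat_lit 2, nat_lit 0],
   [nat_lit 4, nat_lit 6, nat_lit 0, nat_lit 1, nat_lit 3, nat_lit 4, nat_lit 6, nat_lit 4]],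
  []]

def HT : List (List (Nat × Nat × Nat)) := [
  [(0, 8, 1), (0, 13, 1), (0, 17, 1), (2, 0, 0), (0, 24, 1), (0, 23, 1)],
  [(2, 1, 0), (0, 22, 1), (0, 7, 0), (0, 9, 1), (0, 14, 1), (0, 18, 1)],
  [(2, 2, 0), (0, 25, 1), (0, 15, 1), (1, 30, 8)],
  [(2, 3, 0), (1, 23, 2), (0, 12, 0), (0, 16, 1), (0, 20, 1), (0, 29, 3)],
  [(0, 27, 6), (2, 4, 0), (0, 29, 8), (1, 30, 6), (0, 13, 0), (1, 30, 2)],
  [(1, 29, 6), (2, 5, 0), (0, 26, 1), (0, 21, 0)],
  [(0, 24, 0), (1, 28, 7), (0, 27, 7)],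
  []]

def R : List (List Nat) :=
  [[0, 0],
   [1, 1],
   [2, 2],
   [3, 3],
   [4, 4],
   [5, 5],
   [6, 6],
   [0, 1, 0, 1],
   [0, 2, 0, 2],
   [1, 2, 1, 2],
   [0, 3, 0, 3],
   [1, 3, 1, 3],
   [2, 3, 2, 3],
   [0, 4, 0, 4],
   [1, 4, 1, 4],
   [2, 4, 2, 4],
   [3, 4, 3, 4],
   [0, 5, 0, 5],
   [1, 5, 1, 5],
   [2, 5, 2, 5],
   [3, 5, 3, 5],
   [4, 5, 4, 5],
   [1, 6, 1, 6],
   [0, 3, 6, 0, 3, 6],
   [0, 6, 0, 6, 0, 6],
   [2, 6, 2, 6, 2, 6, 2, 6],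
   [5, 6, 5, 6, 5, 6, 5, 6],
   [0, 1, 3, 4, 6, 4, 6, 4, 6],
   [0, 2, 6, 0, 2, 6, 2, 0, 6],
   [2, 6, 3, 5, 6, 2, 6, 4, 6],
   [0, 2, 6, 4, 5, 6, 5, 4, 6]]

def W : List (List Nat) := [[0],
   [1],
   [2],
   [3],
   [4],
   [5]]

noncomputable def P : Par := ⟨T, (nat_lit 4), (nat_lit 15), (nat_lit 117), (nat_lit 13), (nat_lit 8191), (nat_lit 5), (nat_lit 31), (nat_lit 7), (nat_lit 28), (nat_lit 32), (nat_lit 0x8398a418820), RT⟩

noncomputable def J0 : List Nat := [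
  nat_lit 0x5e400119000464001190004e400139010c002218c0c04116205011808d811c0110156328617a588019e6d141cdb8a21eeff221cdb52210842108421084210842108421084210842108421]

theorem c0 : chk T (nat_lit 4) (nat_lit 15) (nat_lit 117) (nat_lit 13) (nat_lit 8191) (nat_lit 5) (nat_lit 31) (nat_lit 7) (nat_lit 28) (nat_lit 32) (nat_lit 0x8398a418820) (nat_lit 3) (nat_lit 7) RT (nat_lit 16) J0 (nat_lit 16) = true := by
  decide +kernel

theorem r0 : P.RowsOK 16 32 := chk_sound P _ _ _ J0 _ _ (by decide +kernel) c0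

theorem index.{u} : IndexLe.{u} 7 R W 12 :=
  indexLe_of_cert P HT (by decide +kernel)
    (show P.RowsOK 16 32 from r0)

end Tk1

theorem upK_1 : CardLe (genW s [[0], [1], [2], [3], [4], [5], [6]]) 768 :=
  CardLe.tc (V' := [[0], [1], [2], [3], [4], [5]]) (n := 12) (m := 64) [0, 1, 2, 3, 4, 5, 6] Tk1.index pres.sat (by decide +kernel) (by decide +kernel) (by decide +kernel) upK_2

namespace Tk0

noncomputable def t0 : Tr := (Tr.node (nat_lit 0) (Tr.leaf (nat_lit 0x865bfff027c016037c29f087c29f057c25f8757fff005406706900970a9016309801238753fff00500660a5c264075c1a1026c1218653fff1670014087011c077011c057015c874ffff004c06508840e307841570374097854ffff019029a004c1d405582150568096844ffff018c0620a5001305541960564095824ffff0384118085415605500130560094674bfff00480970b740de067411b01840db654bfff018005f004819806681d904580da644bfff01781150760012066425a04540d9624bfff017405c096421a066001204500d8604bfff016c0d301680590448058044c0124647fff015c0110158055054c05403480532743fff0040052024409103440d102440910003fff0144050014005001400500140050))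
(Tr.leaf (nat_lit 0x3fffffffffffffffffffffffffffffff0003fffffffffffffffffffffffffffffffc59bfff13b432d00983ed08ac36704ac1adc797fff009412c139c36c16a84e612a816cc597fff119c36b009436b09b43a805b416bc297fff11a81aa0fa036a15b002513b016ac78bfff00883290ca41e90da41e90ca41a9a683fff03a002010a82e8109c3eb099c428a67bfff12ac01e14b01e711a03ad0aa03e7a677fff159801d01b4366079452c0394166a66ffff01b001b01ac325089806a0498125a76bfff00681e4057821d0978220098c0e0a767fff00642e3038009b088019e0a900dea667fff01a40190b881a206882e20688162815ffff02600e1076c1a0066c15d005c0dd875bfff0058068048c1e1098c1e40878124)))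

noncomputable def T : Tr := t0

def RT : List (List (List Nat)) := [
  [[nat_lit 2, nat_lit 0, nat_lit 2],
   [nat_lit 4, nat_lit 0, nat_lit 4],
   [nat_lit 5, nat_lit 0, nat_lit 5],
   [nat_lit 7, nat_lit 0, nat_lit 7],
   [nat_lit 9],
   [nat_lit 6, nat_lit 0, nat_lit 6, nat_lit 0, nat_lit 6],
   [nat_lit 3, nat_lit 6, nat_lit 0, nat_lit 3, nat_lit 6],
   [nat_lit 1, nat_lit 0, nat_lit 1]],
  [[nat_lit 7, nat_lit 2, nat_lit 0, nat_lit 7],
   [nat_lit 6, nat_lit 1, nat_lit 6],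
   [nat_lit 5, nat_lit 1, nat_lit 5],
   [nat_lit 9],
   [nat_lit 7, nat_lit 0, nat_lit 2, nat_lit 7],
   [nat_lit 0, nat_lit 1, nat_lit 0],
   [nat_lit 2, nat_lit 1, nat_lit 2],
   [nat_lit 4, nat_lit 1, nat_lit 4]],
  [[nat_lit 0, nat_lit 7, nat_lit 1, nat_lit 7],
   [nat_lit 6, nat_lit 2, nat_lit 6, nat_lit 2, nat_lit 6, nat_lit 2, nat_lit 6],
   [nat_lit 9],
   [nat_lit 7, nat_lit 1, nat_lit 7, nat_lit 0],
   [nat_lit 1, nat_lit 2, nat_lit 1],
   [nat_lit 4, nat_lit 2, nat_lit 4],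
   [nat_lit 5, nat_lit 2, nat_lit 5],
   [nat_lit 0, nat_lit 6, nat_lit 4, nat_lit 5, nat_lit 6, nat_lit 5, nat_lit 4, nat_lit 6],
   [nat_lit 6, nat_lit 5, nat_lit 3, nat_lit 6, nat_lit 2, nat_lit 6, nat_lit 4, nat_lit 6]],
  [[nat_lit 9],
   [nat_lit 7, nat_lit 1, nat_lit 3, nat_lit 7, nat_lit 1],
   [nat_lit 0, nat_lit 6, nat_lit 3, nat_lit 0, nat_lit 6],
   [nat_lit 2, nat_lit 3, nat_lit 2],
   [nat_lit 4, nat_lit 3, nat_lit 4],
   [nat_lit 5, nat_lit 3, nat_lit 5],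
   [nat_lit 1, nat_lit 7, nat_lit 3, nat_lit 1, nat_lit 7],
   [nat_lit 5, nat_lit 6, nat_lit 2, nat_lit 6, nat_lit 4, nat_lit 6, nat_lit 2, nat_lit 6],
   [nat_lit 6, nat_lit 0, nat_lit 3, nat_lit 6, nat_lit 0]],
  [[nat_lit 7, nat_lit 4, nat_lit 7],
   [nat_lit 6, nat_lit 4, nat_lit 6, nat_lit 0, nat_lit 1, nat_lit 3, nat_lit 4, nat_lit 6],
   [nat_lit 9],
   [nat_lit 6, nat_lit 2, nat_lit 6, nat_lit 3, nat_lit 5, nat_lit 6, nat_lit 2, nat_lit 6],
   [nat_lit 6, nat_lit 2, nat_lit 0, nat_lit 6, nat_lit 4, nat_lit 5, nat_lit 6, nat_lit 5],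
   [nat_lit 0, nat_lit 4, nat_lit 0],
   [nat_lit 5, nat_lit 6, nat_lit 5, nat_lit 4, nat_lit 6, nat_lit 2, nat_lit 0, nat_lit 6],
   [nat_lit 6, nat_lit 4, nat_lit 3, nat_lit 1, nat_lit 0, nat_lit 6, nat_lit 4, nat_lit 6],
   [nat_lit 6, nat_lit 2, nat_lit 6, nat_lit 5, nat_lit 3, nat_lit 6, nat_lit 2, nat_lit 6],
   [nat_lit 1, nat_lit 4, nat_lit 1],
   [nat_lit 2, nat_lit 4, nat_lit 2],
   [nat_lit 5, nat_lit 4, nat_lit 5]],
  [[nat_lit 7, nat_lit 0, nat_lit 4, nat_lit 5, nat_lit 7],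
   [nat_lit 0, nat_lit 5, nat_lit 0],
   [nat_lit 3, nat_lit 6, nat_lit 2, nat_lit 6, nat_lit 4, nat_lit 6, nat_lit 2, nat_lit 6],
   [nat_lit 9],
   [nat_lit 6, nat_lit 5, nat_lit 6, nat_lit 5, nat_lit 6, nat_lit 5, nat_lit 6],
   [nat_lit 4, nat_lit 5, nat_lit 4],
   [nat_lit 2, nat_lit 5, nat_lit 2],
   [nat_lit 1, nat_lit 5, nat_lit 1]],
  [[nat_lit 0, nat_lit 6, nat_lit 0, nat_lit 6, nat_lit 0],
   [nat_lit 7, nat_lit 6, nat_lit 7, nat_lit 6, nat_lit 7, nat_lit 6, nat_lit 7],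
   [nat_lit 2, nat_lit 0, nat_lit 6, nat_lit 0, nat_lit 2, nat_lit 6, nat_lit 2, nat_lit 0],
   [nat_lit 4, nat_lit 6, nat_lit 0, nat_lit 1, nat_lit 3, nat_lit 4, nat_lit 6, nat_lit 4],
   [nat_lit 9],
   [nat_lit 1, nat_lit 6, nat_lit 1],
   [nat_lit 2, nat_lit 6, nat_lit 2, nat_lit 6, nat_lit 2, nat_lit 6, nat_lit 2],
   [nat_lit 5, nat_lit 6, nat_lit 5, nat_lit 6, nat_lit 5, nat_lit 6, nat_lit 5],
   [nat_lit 5, nat_lit 4, nat_lit 6, nat_lit 2, nat_lit 0, nat_lit 6, nat_lit 4, nat_lit 5]],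
  [[nat_lit 1, nat_lit 7, nat_lit 0, nat_lit 2],
   [nat_lit 6, nat_lit 5, nat_lit 6, nat_lit 7, nat_lit 6, nat_lit 5, nat_lit 6, nat_lit 7, nat_lit 6, nat_lit 5, nat_lit 6],
   [nat_lit 6, nat_lit 7, nat_lit 6, nat_lit 7, nat_lit 6, nat_lit 7, nat_lit 6],
   [nat_lit 2, nat_lit 0, nat_lit 7, nat_lit 1],
   [nat_lit 5, nat_lit 4, nat_lit 0, nat_lit 7, nat_lit 5],
   [nat_lit 0, nat_lit 2, nat_lit 7, nat_lit 1]],
  []]

def HT : List (List (Nat × Nat × Nat)) := [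
  [(0, 9, 1), (0, 14, 1), (0, 18, 1), (0, 32, 1), (2, 0, 0), (0, 25, 1), (0, 24, 1), (0, 8, 1)],
  [(1, 34, 2), (0, 23, 1), (0, 19, 1), (2, 1, 0), (0, 34, 4), (0, 8, 0), (0, 10, 1), (0, 15, 1)],
  [(1, 34, 4), (0, 26, 1), (2, 2, 0), (0, 34, 2), (0, 10, 0), (0, 16, 1), (0, 20, 1), (1, 31, 8), (1, 30, 4)],
  [(2, 3, 0), (0, 36, 2), (1, 24, 2), (0, 13, 0), (0, 17, 1), (0, 21, 1), (1, 36, 2), (0, 30, 3), (0, 24, 2)],
  [(0, 33, 1), (0, 28, 6), (2, 4, 0), (0, 30, 8), (1, 31, 6), (0, 14, 0), (1, 31, 2), (1, 28, 4), (1, 30, 2), (0, 15, 0), (0, 16, 0), (0, 22, 1)],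
  [(0, 35, 5), (0, 18, 0), (1, 30, 6), (2, 5, 0), (0, 27, 1), (0, 22, 0), (0, 20, 0), (0, 19, 0)],
  [(0, 25, 0), (0, 37, 1), (1, 29, 7), (0, 28, 7), (2, 6, 0), (0, 23, 0), (0, 26, 0), (0, 27, 0), (1, 31, 4)],
  [(0, 34, 3), (0, 38, 3), (0, 37, 0), (1, 34, 3), (1, 35, 3), (0, 34, 0)],
  []]

def R : List (List Nat) :=
  [[0, 0],
   [1, 1],
   [2, 2],
   [3, 3],
   [4, 4],
   [5, 5],
   [6, 6],
   [7, 7],
   [0, 1, 0, 1],
   [0, 2, 0, 2],
   [1, 2, 1, 2],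
   [0, 3, 0, 3],
   [1, 3, 1, 3],
   [2, 3, 2, 3],
   [0, 4, 0, 4],
   [1, 4, 1, 4],
   [2, 4, 2, 4],
   [3, 4, 3, 4],
   [0, 5, 0, 5],
   [1, 5, 1, 5],
   [2, 5, 2, 5],
   [3, 5, 3, 5],
   [4, 5, 4, 5],
   [1, 6, 1, 6],
   [0, 3, 6, 0, 3, 6],
   [0, 6, 0, 6, 0, 6],
   [2, 6, 2, 6, 2, 6, 2, 6],
   [5, 6, 5, 6, 5, 6, 5, 6],
   [0, 1, 3, 4, 6, 4, 6, 4, 6],
   [0, 2, 6, 0, 2, 6, 2, 0, 6],
   [2, 6, 3, 5, 6, 2, 6, 4, 6],
   [0, 2, 6, 4, 5, 6, 5, 4, 6],
   [0, 7, 0, 7],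
   [4, 7, 4, 7],
   [0, 2, 7, 1, 7],
   [0, 4, 5, 7, 5, 7],
   [1, 3, 7, 1, 3, 7],
   [6, 7, 6, 7, 6, 7, 6, 7],
   [5, 6, 7, 6, 5, 6, 7, 6, 5, 6, 7, 6],
   [1, 2, 7, 1, 2, 7]]

def W : List (List Nat) := [[0],
   [1],
   [2],
   [3],
   [4],
   [5],
   [6]]

noncomputable def P : Par := ⟨T, (nat_lit 4), (nat_lit 15), (nat_lit 140), (nat_lit 14), (nat_lit 16383), (nat_lit 6), (nat_lit 63), (nat_lit 8), (nat_lit 46), (nat_lit 48), (nat_lit 0x128398a418820), RT⟩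

noncomputable def J0 : List Nat := [
  nat_lit 0x14c40013c40012c40010c40012c40013c40014c4015623220841030000840185c1000801088401c001090085d40104000840010053003841288558100139768400014477784801500000084173345485010200070841007020084183998684c1,
  nat_lit 0x980000841585a09dc8173343684015006227841590623a8417000a08401930ab085c120009084019305b08501562822384120857221814060d85d41526029384144a7c86541041041041041041041041041041]

theorem c0 : chk T (nat_lit 4) (nat_lit 15) (nat_lit 140) (nat_lit 14) (nat_lit 16383) (nat_lit 6) (nat_lit 63) (nat_lit 8) (nat_lit 46) (nat_lit 48) (nat_lit 0x128398a418820) (nat_lit 4) (nat_lit 15) RT (nat_lit 16) J0 (nat_lit 16) = true := by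
  decide +kernel

theorem r0 : P.RowsOK 16 48 := chk_sound P _ _ _ J0 _ _ (by decide +kernel) c0

theorem index.{u} : IndexLe.{u} 8 R W 30 :=
  indexLe_of_cert P HT (by decide +kernel)
    (show P.RowsOK 16 48 from r0)

end Tk0

theorem upK : CardLe (genW s [[0], [1], [2], [3], [4], [5], [6], [7]]) 23040 :=
  CardLe.tc (V' := [[0], [1], [2], [3], [4], [5], [6]]) (n := 30) (m := 768) [0, 1, 2, 3, 4, 5, 6, 7] Tk0.index pres.sat (by decide +kernel) (by decide +kernel) (by decide +kernel) upK_1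

theorem up : CardLe (gen s 9) 1451520 := upK.step (Top.index _ s pres.sat)

end Cfsg.Agent.SchurG.S62
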